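import Mathlib.GroupTheory.Sylow
import Mathlib.GroupTheory.PGroup
import Mathlib.GroupTheory.Nilpotent
import Mathlib.GroupTheory.Frattini
import Cfsg.Agent.H309.Conj
import Mathlib.GroupTheory.IndexNormal
import Mathlib.Tactic.Ring
import Mathlib.Tactic.NormNum
import Cfsg.Agent.Lib.ProductSet
import Cfsg.Agent.Lib.FrattiniPGroup
set_option linter.all false

-- part: H309/Ru/Hyp
section
/-!
# S3204: the data on the 2-group and its transport (helper309)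

`Hyp T T1 T2 W Z4 Z Z2 Z1` records the facts on a Sylow 2-subgroup `T` of Rudvalis type that are used.
-/

set_option autoImplicit false

namespace Cfsg.Agent.H309.Ru

open Subgroup
open scoped commutatorElement

/-- The facts on a 2-group `T` of Rudvalis type inside a group `G`. -/
structure Hyp {G : Type*} [Group G] (T T1 T2 W Z4 Z Z2 Z1 : Subgroup G) : Prop where
  Z1_le : Z1 ≤ Z2
  Z2_le : Z2 ≤ Z
  Z_le : Z ≤ Z4
  Z4_le : Z4 ≤ W
  W_le1 : W ≤ T1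
  W_le2 : W ≤ T2
  T1_le : T1 ≤ T
  T2_le : T2 ≤ T
  cZ1 : Nat.card Z1 = 2
  cZ2 : Nat.card Z2 = 4
  cZ : Nat.card Z = 8
  cZ4 : Nat.card Z4 = 16
  cW : Nat.card W = 2048
  cT1 : Nat.card T1 = 8192
  cT2 : Nat.card T2 = 8192
  cT : Nat.card T = 16384
  sqZ : ∀ z ∈ Z, z * z = 1
  cen : ∀ z ∈ Z, ∀ w ∈ W, w * z = z * w
  memW : ∀ t ∈ T, (∀ z ∈ Z, t * z = z * t) → t ∈ W
  sqW : ∀ w ∈ W, w * w ∈ Z
  comW : ∀ w ∈ W, ∀ w' ∈ W, ⁅w, w'⁆ ∈ Z
  c1 : ∀ t ∈ T, ∀ z ∈ Z1, t * z = z * t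
  c2 : ∀ t ∈ T, ∀ z ∈ Z2, ⁅t, z⁆ ∈ Z1
  c3 : ∀ t ∈ T, ∀ z ∈ Z, ⁅t, z⁆ ∈ Z2
  c4 : ∀ t ∈ T, ∀ z ∈ Z4, ⁅t, z⁆ ∈ Z
  nW : ∀ t ∈ T, ∀ w ∈ W, t * w * t⁻¹ ∈ W
  memT1 : ∀ t, t ∈ T1 ↔ t ∈ T ∧ ∀ z ∈ Z, ⁅t, z⁆ ∈ Z1
  memT2 : ∀ t, t ∈ T2 ↔ t ∈ T ∧ ∀ z ∈ Z2, t * z = z * t
  d : ∀ U : Subgroup G, U ≤ W → Nat.card W ≤ 16 * Nat.card U → Z ≤ U
  C : ∀ U : Subgroup G, U ≤ W → Nat.card W ≤ 4 * Nat.card U → ∀ H : Subgroup G,
    (∀ x ∈ U, ∀ y ∈ U, ⁅x, y⁆ ∈ H) → Z ≤ H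
  up1 : ∀ x ∈ T, (∀ t ∈ T, ⁅t, x⁆ ∈ Z1) → x ∈ Z2
  norm2 : ∀ K : Subgroup G, K ≤ Z → (∀ t ∈ T, ∀ k ∈ K, t * k * t⁻¹ ∈ K) → ¬ K ≤ Z1 → Z2 ≤ K
  norm4 : ∀ K : Subgroup G, K ≤ W → (∀ t ∈ T, ∀ k ∈ K, t * k * t⁻¹ ∈ K) → ¬ K ≤ Z → Z4 ≤ K
  full : ∀ z2 ∈ Z2, z2 ∉ Z1 → ∀ z3 ∈ Z, z3 ∉ Z2 → ∀ a ∈ Z1, ∀ b ∈ Z2,
    ∃ t ∈ T, ⁅t, z2⁆ = a ∧ ⁅t, z3⁆ = b
  b1 : ∀ A : Subgroup G, A ≤ W → Z ≤ A → (∀ t ∈ T1, ∀ a ∈ A, ⁅t, a⁆ ∈ Z) →
    (∀ t ∈ T, ∀ k ∈ A, t * k * t⁻¹ ∈ A) → Nat.card A ≤ 32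
  e1 : ∀ A : Subgroup G, A ≤ T → Z1 ≤ A → (∀ a ∈ A, a * a = 1) → (∀ t ∈ T, ∀ k ∈ A, t * k * t⁻¹ ∈ A) →
    (∀ t ∈ T1, ∀ a ∈ A, ⁅t, a⁆ ∈ Z1) → Nat.card A ≤ 8

/-- Transport of `Hyp` along an injective homomorphism. -/
theorem Hyp.map {G H : Type*} [Group G] [Group H] {T T1 T2 W Z4 Z Z2 Z1 : Subgroup G}
    (h : Hyp T T1 T2 W Z4 Z Z2 Z1) (f : G →* H) (hf : Function.Injective f) :
    Hyp (T.map f) (T1.map f) (T2.map f) (W.map f) (Z4.map f) (Z.map f) (Z2.map f) (Z1.map f) := by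
  have hc : ∀ K : Subgroup G, Nat.card (K.map f) = Nat.card K := fun K =>
    Subgroup.card_map_of_injective hf
  have hm : ∀ (K : Subgroup G) (x : G), f x ∈ K.map f ↔ x ∈ K := fun K x =>
    Subgroup.mem_map_iff_mem hf
  have hb : ∀ x y : G, ⁅f x, f y⁆ = f ⁅x, y⁆ := fun x y => (map_commutatorElement f x y).symm
  -- subgroups below an image
  have hpre : ∀ (K : Subgroup G) (U : Subgroup H), U ≤ K.map f → (U.comap f).map f = U ∧ U.comap f ≤ K := by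
    intro K U hU
    constructor
    · rw [Subgroup.map_comap_eq_self]
      exact hU.trans (Subgroup.map_le_range f K)
    · intro x hx
      exact (hm K x).1 (hU hx)
  refine
    { Z1_le := map_mono h.Z1_le
      Z2_le := map_mono h.Z2_le
      Z_le := map_mono h.Z_le
      Z4_le := map_mono h.Z4_le
      W_le1 := map_mono h.W_le1
      W_le2 := map_mono h.W_le2
      T1_le := map_mono h.T1_le
      T2_le := map_mono h.T2_le
      cZ1 := (hc _).trans h.cZ1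
      cZ2 := (hc _).trans h.cZ2
      cZ := (hc _).trans h.cZ
      cZ4 := (hc _).trans h.cZ4
      cW := (hc _).trans h.cW
      cT1 := (hc _).trans h.cT1
      cT2 := (hc _).trans h.cT2
      cT := (hc _).trans h.cT
      sqZ := ?_, cen := ?_, memW := ?_, sqW := ?_, comW := ?_, c1 := ?_, c2 := ?_, c3 := ?_, c4 := ?_
      nW := ?_, memT1 := ?_, memT2 := ?_, d := ?_, C := ?_, up1 := ?_, norm2 := ?_, norm4 := ?_
      full := ?_, b1 := ?_, e1 := ?_ }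
  · rintro _ ⟨z, hz, rfl⟩
    rw [← map_mul, h.sqZ z hz, map_one]
  · rintro _ ⟨z, hz, rfl⟩ _ ⟨w, hw, rfl⟩
    rw [← map_mul, ← map_mul, h.cen z hz w hw]
  · rintro _ ⟨t, ht, rfl⟩ hz
    rw [hm]
    refine h.memW t ht (fun z hz' => hf ?_)
    rw [map_mul, map_mul]
    exact hz _ ⟨z, hz', rfl⟩
  · rintro _ ⟨w, hw, rfl⟩
    rw [← map_mul, hm]; exact h.sqW w hw
  · rintro _ ⟨w, hw, rfl⟩ _ ⟨w', hw', rfl⟩
    rw [hb, hm]; exact h.comW w hw w' hw'
  · rintro _ ⟨t, ht, rfl⟩ _ ⟨z, hz, rfl⟩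
    rw [← map_mul, ← map_mul, h.c1 t ht z hz]
  · rintro _ ⟨t, ht, rfl⟩ _ ⟨z, hz, rfl⟩
    rw [hb, hm]; exact h.c2 t ht z hz
  · rintro _ ⟨t, ht, rfl⟩ _ ⟨z, hz, rfl⟩
    rw [hb, hm]; exact h.c3 t ht z hz
  · rintro _ ⟨t, ht, rfl⟩ _ ⟨z, hz, rfl⟩
    rw [hb, hm]; exact h.c4 t ht z hz
  · rintro _ ⟨t, ht, rfl⟩ _ ⟨w, hw, rfl⟩
    rw [← map_inv, ← map_mul, ← map_mul, hm]; exact h.nW t ht w hw
  · intro t
    constructor
    · rintro ⟨t, ht, rfl⟩
      refine ⟨(hm _ _).2 ((h.memT1 t).1 ht).1, ?_⟩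
      rintro _ ⟨z, hz, rfl⟩
      rw [hb, hm]; exact ((h.memT1 t).1 ht).2 z hz
    · rintro ⟨⟨t, ht, rfl⟩, hz⟩
      rw [hm, h.memT1]
      refine ⟨ht, fun z hz' => ?_⟩
      rw [← hm, ← hb]
      exact hz _ ⟨z, hz', rfl⟩
  · intro t
    constructor
    · rintro ⟨t, ht, rfl⟩
      refine ⟨(hm _ _).2 ((h.memT2 t).1 ht).1, ?_⟩
      rintro _ ⟨z, hz, rfl⟩
      rw [← map_mul, ← map_mul, ((h.memT2 t).1 ht).2 z hz]
    · rintro ⟨⟨t, ht, rfl⟩, hz⟩
      rw [hm, h.memT2]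
      refine ⟨ht, fun z hz' => hf ?_⟩
      rw [map_mul, map_mul]
      exact hz _ ⟨z, hz', rfl⟩
  · intro U hU hcard
    obtain ⟨h1, h2⟩ := hpre W U hU
    rw [← h1]
    apply map_mono
    apply h.d _ h2
    rw [← h1, hc, hc] at hcard
    exact hcard
  · intro U hU hcard K hK
    obtain ⟨h1, h2⟩ := hpre W U hU
    have h3 : Z ≤ K.comap f := by
      apply h.C _ h2
      · rw [← h1, hc, hc] at hcard
        exact hcard
      · intro x hx y hy
        rw [mem_comap, ← hb]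
        exact hK _ hx _ hy
    rw [map_le_iff_le_comap]
    exact h3
  · rintro _ ⟨x, hx, rfl⟩ ht
    rw [hm]
    apply h.up1 x hx
    intro t ht'
    rw [← hm, ← hb]
    exact ht _ ⟨t, ht', rfl⟩
  · intro K hK hn hle
    obtain ⟨h1, h2⟩ := hpre Z K hK
    rw [← h1]
    apply map_mono
    apply h.norm2 _ h2
    · intro t ht k hk
      rw [mem_comap, map_mul, map_mul, map_inv]
      exact hn _ ⟨t, ht, rfl⟩ _ hk
    · intro hcon
      apply hle
      rw [← h1]; exact map_mono hcon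
  · intro K hK hn hle
    obtain ⟨h1, h2⟩ := hpre W K hK
    rw [← h1]
    apply map_mono
    apply h.norm4 _ h2
    · intro t ht k hk
      rw [mem_comap, map_mul, map_mul, map_inv]
      exact hn _ ⟨t, ht, rfl⟩ _ hk
    · intro hcon
      apply hle
      rw [← h1]; exact map_mono hcon
  · rintro _ ⟨z2, hz2, rfl⟩ hz2' _ ⟨z3, hz3, rfl⟩ hz3' _ ⟨a, ha, rfl⟩ _ ⟨b, hb', rfl⟩
    rw [hm] at hz2' hz3'
    obtain ⟨t, ht, e1, e2⟩ := h.full z2 hz2 hz2' z3 hz3 hz3' a ha b hb'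
    exact ⟨f t, ⟨t, ht, rfl⟩, by rw [hb, e1], by rw [hb, e2]⟩
  · intro A hA hZA hT1 hn
    obtain ⟨h1, h2⟩ := hpre W A hA
    rw [← h1, hc]
    apply h.b1 _ h2
    · intro z hz
      exact hZA ⟨z, hz, rfl⟩
    · intro t ht a ha
      rw [← hm, ← hb]
      exact hT1 _ ⟨t, ht, rfl⟩ _ ha
    · intro t ht k hk
      rw [mem_comap, map_mul, map_mul, map_inv]
      exact hn _ ⟨t, ht, rfl⟩ _ hk
  · intro A hA hZA hsq hn hT1
    obtain ⟨h1, h2⟩ := hpre T A hA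
    rw [← h1, hc]
    apply h.e1 _ h2
    · intro z hz
      exact hZA ⟨z, hz, rfl⟩
    · intro a ha
      apply hf
      rw [map_mul, map_one]
      exact hsq _ ha
    · intro t ht k hk
      rw [mem_comap, map_mul, map_mul, map_inv]
      exact hn _ ⟨t, ht, rfl⟩ _ hk
    · intro t ht a ha
      rw [← hm, ← hb]
      exact hT1 _ ⟨t, ht, rfl⟩ _ ha

end Cfsg.Agent.H309.Ru
end

-- part: H309/Ru/AbsA
section
/-!
# S3204: abstract 2-groups, upper central series and fixed points (helper309)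
-/

set_option autoImplicit false

namespace Cfsg.Agent.H309.Ru

open Subgroup
open scoped commutatorElement

section ucs

variable {P : Type*} [Group P]

/-- A normal subgroup not inside `Z_i` has an element of `Z_{i+1} \ Z_i`. -/
theorem exists_mem_succ (hn : Group.IsNilpotent P) (N : Subgroup P) (hN : N.Normal) (i : ℕ)
    (h : ¬ N ≤ Subgroup.upperCentralSeries P i) :
    ∃ x ∈ N, x ∈ Subgroup.upperCentralSeries P (i + 1) ∧ x ∉ Subgroup.upperCentralSeries P i := by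
  obtain ⟨n, hn⟩ := hn.nilpotent
  have key : ∀ n : ℕ, (∃ x ∈ N, x ∈ Subgroup.upperCentralSeries P n ∧ x ∉ Subgroup.upperCentralSeries P i) →
      ∃ x ∈ N, x ∈ Subgroup.upperCentralSeries P (i + 1) ∧ x ∉ Subgroup.upperCentralSeries P i := by
    intro n
    induction n with
    | zero =>
      rintro ⟨x, hx, h0, hi⟩
      rw [Subgroup.upperCentralSeries_zero, mem_bot] at h0
      exact absurd (h0 ▸ one_mem _) hi
    | succ n ih =>
      rintro ⟨x, hx, h0, hi⟩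
      by_cases hall : ∀ y : P, ⁅x, y⁆ ∈ Subgroup.upperCentralSeries P i
      · exact ⟨x, hx, Subgroup.mem_upperCentralSeries_succ_iff.2 hall, hi⟩
      · push Not at hall
        obtain ⟨y, hy⟩ := hall
        apply ih
        refine ⟨⁅x, y⁆, ?_, Subgroup.mem_upperCentralSeries_succ_iff.1 h0 y, hy⟩
        rw [commutatorElement_def]
        have := hN.conj_mem x⁻¹ (inv_mem hx) y
        have h2 := mul_mem hx this
        simpa [mul_assoc] using h2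
  rw [SetLike.not_le_iff_exists] at h
  obtain ⟨x, hx, hi⟩ := h
  exact key n ⟨x, hx, by rw [hn]; trivial, hi⟩

theorem ucs_lt (hn : Group.IsNilpotent P) (i : ℕ) (h : Subgroup.upperCentralSeries P (i + 1) ≠ ⊤) :
    Subgroup.upperCentralSeries P i < Subgroup.upperCentralSeries P (i + 1) := by
  refine lt_of_le_of_ne (Subgroup.upperCentralSeries_mono P (Nat.le_succ i)) ?_
  intro heq
  obtain ⟨x, -, hx, hxi⟩ := exists_mem_succ hn ⊤ inferInstance i (by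
    rw [heq, top_le_iff]; exact h)
  rw [← heq] at hx
  exact hxi hx

theorem card_lt_two [Finite P] {A B : Subgroup P} (h : A < B) : 2 * Nat.card A ≤ Nat.card B := by
  obtain ⟨k, hk⟩ := card_dvd_of_le h.le
  have hA : 0 < Nat.card A := Nat.card_pos
  have hlt : Nat.card A < Nat.card B := by
    rcases lt_or_eq_of_le (Nat.le_of_dvd Nat.card_pos (card_dvd_of_le h.le)) with h1 | h1
    · exact h1
    · exact absurd (eq_of_le_of_card_ge h.le h1.ge) h.ne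
  have : 2 ≤ k := by
    by_contra hcon
    have : k = 0 ∨ k = 1 := by omega
    rcases this with rfl | rfl
    · rw [hk] at hlt; simp at hlt
    · rw [hk] at hlt; simp at hlt
  rw [hk]; nlinarith

theorem cards [Finite P] (hn : Group.IsNilpotent P) (hb : Nat.card (Subgroup.upperCentralSeries P 4) = 16)
    (ha : 16 < Nat.card P) :
    Nat.card (Subgroup.upperCentralSeries P 1) = 2 ∧ Nat.card (Subgroup.upperCentralSeries P 2) = 4 ∧
      Nat.card (Subgroup.upperCentralSeries P 3) = 8 := by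
  have h4 : Subgroup.upperCentralSeries P 4 ≠ ⊤ := by
    intro h
    rw [h, card_top] at hb
    omega
  have hne : ∀ i ≤ 4, Subgroup.upperCentralSeries P i ≠ ⊤ := by
    intro i hi h
    apply h4
    rw [eq_top_iff, ← h]
    exact Subgroup.upperCentralSeries_mono P hi
  have h0 : Nat.card (Subgroup.upperCentralSeries P 0) = 1 := by
    rw [Subgroup.upperCentralSeries_zero]; exact card_bot
  have e1 := card_lt_two (ucs_lt hn 0 (hne 1 (by norm_num)))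
  have e2 := card_lt_two (ucs_lt hn 1 (hne 2 (by norm_num)))
  have e3 := card_lt_two (ucs_lt hn 2 (hne 3 (by norm_num)))
  have e4 := card_lt_two (ucs_lt hn 3 (hne 4 (by norm_num)))
  rw [hb] at e4
  simp only [Nat.reduceAdd] at *
  rw [h0] at e1
  omega

/-- If `A ≤ B` has index at most 2 (order form) and `x ∈ B \ A`, then `y ∈ A` or `x⁻¹ y ∈ A` for `y ∈ B`. -/
theorem mem_or_mem [Finite P] {A B : Subgroup P} (hAB : A ≤ B) (hc : Nat.card B = 2 * Nat.card A)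
    {x y : P} (hx : x ∈ B) (hxA : x ∉ A) (hy : y ∈ B) : y ∈ A ∨ x⁻¹ * y ∈ A := by
  have hidx : (A.subgroupOf B).index = 2 := by
    have h1 := (A.subgroupOf B).card_mul_index
    have h2 : Nat.card (A.subgroupOf B) = Nat.card A :=
      Nat.card_congr (subgroupOfEquivOfLe hAB).toEquiv
    rw [h2, hc] at h1
    have hA : 0 < Nat.card A := Nat.card_pos
    nlinarith
  have h1 := mul_mem_iff_of_index_two hidx (a := (⟨x, hx⟩ : B)⁻¹) (b := ⟨y, hy⟩)
  rw [inv_mem_iff, mem_subgroupOf, mem_subgroupOf, mem_subgroupOf] at h1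
  by_cases hyA : y ∈ A
  · exact Or.inl hyA
  · right
    have : ((⟨x, hx⟩ : B)⁻¹ * ⟨y, hy⟩ : B) = (⟨x⁻¹ * y, mul_mem (inv_mem hx) hy⟩ : B) := rfl
    rw [this] at h1
    simp only at h1
    rw [h1]
    simp [hxA, hyA]

/-- Normal subgroups and the upper central series with factors of order 2. -/
theorem ucs_le_of_normal [Finite P] (hn : Group.IsNilpotent P) (n : ℕ)
    (hc : ∀ i < n, Nat.card (Subgroup.upperCentralSeries P (i + 1)) = 2 * Nat.card (Subgroup.upperCentralSeries P i))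
    (N : Subgroup P) (hN : N.Normal) : ∀ i < n, ¬ N ≤ Subgroup.upperCentralSeries P i →
      Subgroup.upperCentralSeries P (i + 1) ≤ N := by
  intro i
  induction i with
  | zero =>
    intro hi h
    obtain ⟨x, hx, hx1, hx0⟩ := exists_mem_succ hn N hN 0 h
    intro y hy
    rcases mem_or_mem (Subgroup.upperCentralSeries_mono P (Nat.le_succ 0)) (hc 0 hi) hx1 hx0 hy with h1 | h1
    · rw [Subgroup.upperCentralSeries_zero, mem_bot] at h1
      rw [h1]; exact one_mem _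
    · rw [Subgroup.upperCentralSeries_zero, mem_bot] at h1
      have : y = x := by
        have := mul_eq_one_iff_eq_inv.1 h1
        rw [inv_inj] at this; exact this.symm
      rw [this]; exact hx
  | succ i ih =>
    intro hi h
    have h0 : ¬ N ≤ Subgroup.upperCentralSeries P i := fun hle =>
      h (hle.trans (Subgroup.upperCentralSeries_mono P (Nat.le_succ i)))
    have hle := ih (by omega) h0
    obtain ⟨x, hx, hx1, hx0⟩ := exists_mem_succ hn N hN (i + 1) h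
    intro y hy
    rcases mem_or_mem (Subgroup.upperCentralSeries_mono P (Nat.le_succ (i + 1))) (hc (i + 1) hi) hx1 hx0 hy with h1 | h1
    · exact hle h1
    · have : y = x * (x⁻¹ * y) := by group
      rw [this]
      exact mul_mem hx (hle h1)

end ucs

section fix

/-- Fixed points of an index 2 subgroup on an elementary abelian 2-group. -/
theorem card_fix_le {Q : Type*} [Group Q] [Finite Q] (A : Subgroup Q) (hA2 : ∀ a ∈ A, a * a = 1)
    (R' R : Subgroup Q) (hR : R' ≤ R) (hc : Nat.card R = 2 * Nat.card R')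
    (hn : ∀ r ∈ R, ∀ a ∈ A, r * a * r⁻¹ ∈ A) :
    Nat.card (A ⊓ centralizer (R' : Set Q) : Subgroup Q) ≤
      Nat.card (A ⊓ centralizer (R : Set Q) : Subgroup Q) ^ 2 := by
  have hAc : ∀ a ∈ A, ∀ b ∈ A, a * b = b * a := by
    intro a ha b hb
    have h1 := hA2 _ (mul_mem ha hb)
    have h2 := hA2 a ha
    have h3 := hA2 b hb
    have ha' : a⁻¹ = a := inv_eq_of_mul_eq_one_left h2
    have hb' : b⁻¹ = b := inv_eq_of_mul_eq_one_left h3
    have h4 : (a * b)⁻¹ = a * b := inv_eq_of_mul_eq_one_left h1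
    rw [mul_inv_rev, ha', hb'] at h4
    exact h4.symm
  obtain ⟨τ, hτ, hτ'⟩ : ∃ τ ∈ R, τ ∉ R' := by
    by_contra h
    push Not at h
    have : R = R' := le_antisymm h hR
    rw [this] at hc
    have : 0 < Nat.card R' := Nat.card_pos
    omega
  have hidx : (R'.subgroupOf R).index = 2 := by
    have h1 := (R'.subgroupOf R).card_mul_index
    have h2 : Nat.card (R'.subgroupOf R) = Nat.card R' :=
      Nat.card_congr (subgroupOfEquivOfLe hR).toEquiv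
    rw [h2, hc] at h1
    have hA : 0 < Nat.card R' := Nat.card_pos
    nlinarith
  have hnorm : (R'.subgroupOf R).Normal := Subgroup.normal_of_index_eq_two hidx
  have hτn : ∀ r ∈ R', τ⁻¹ * r * τ ∈ R' := by
    intro r hr
    have := hnorm.conj_mem ⟨r, hR hr⟩ (mem_subgroupOf.2 hr) ⟨τ⁻¹, inv_mem hτ⟩
    rw [mem_subgroupOf] at this
    simpa using this
  have hτ2 : τ * τ ∈ R' := by
    have h1 := mul_mem_iff_of_index_two hidx (a := (⟨τ, hτ⟩ : R)) (b := ⟨τ, hτ⟩)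
    rw [mem_subgroupOf] at h1
    exact h1.2 Iff.rfl
  have hmem : ∀ r ∈ R, r ∈ R' ∨ τ⁻¹ * r ∈ R' := fun r hr => mem_or_mem hR hc hτ hτ' hr
  have hcen : ∀ (S : Subgroup Q) (x : Q), x ∈ (A ⊓ centralizer (S : Set Q) : Subgroup Q) ↔
      x ∈ A ∧ ∀ s ∈ S, s * x = x * s := by
    intro S x
    rw [mem_inf, mem_centralizer_iff]
    rfl
  set F : Subgroup Q := A ⊓ centralizer (R' : Set Q) with hF
  set K : Subgroup Q := A ⊓ centralizer (R : Set Q) with hK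
  -- the map x ↦ τ x τ⁻¹ x⁻¹
  have hval : ∀ x ∈ F, τ * x * τ⁻¹ * x⁻¹ ∈ K := by
    intro x hx
    obtain ⟨hxA, hxR⟩ := (hcen R' x).1 hx
    have hyA : τ * x * τ⁻¹ ∈ A := hn τ hτ x hxA
    have hmA : τ * x * τ⁻¹ * x⁻¹ ∈ A := mul_mem hyA (inv_mem hxA)
    rw [hK, hcen]
    refine ⟨hmA, ?_⟩
    have hR'c : ∀ s ∈ R', s * (τ * x * τ⁻¹ * x⁻¹) = (τ * x * τ⁻¹ * x⁻¹) * s := by
      intro s hs
      have e1 := hxR _ (hτn s hs)
      have e2 := hxR _ hs
      have e3 : s * (τ * x * τ⁻¹) = (τ * x * τ⁻¹) * s := by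
        calc s * (τ * x * τ⁻¹) = τ * ((τ⁻¹ * s * τ) * x) * τ⁻¹ := by group
          _ = τ * (x * (τ⁻¹ * s * τ)) * τ⁻¹ := by rw [e1]
          _ = (τ * x * τ⁻¹) * s := by group
      have e4 : s * x⁻¹ = x⁻¹ * s := by
        calc s * x⁻¹ = x⁻¹ * (x * s) * x⁻¹ := by group
          _ = x⁻¹ * (s * x) * x⁻¹ := by rw [e2]
          _ = x⁻¹ * s := by group
      calc s * (τ * x * τ⁻¹ * x⁻¹) = (s * (τ * x * τ⁻¹)) * x⁻¹ := by group
        _ = (τ * x * τ⁻¹) * (s * x⁻¹) := by rw [e3, mul_assoc]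
        _ = (τ * x * τ⁻¹ * x⁻¹) * s := by rw [e4]; group
    have hτc : τ * (τ * x * τ⁻¹ * x⁻¹) = (τ * x * τ⁻¹ * x⁻¹) * τ := by
      have e1 := hxR _ hτ2
      have e2 : τ * (τ * x * τ⁻¹ * x⁻¹) * τ⁻¹ = x * (τ * x * τ⁻¹)⁻¹ := by
        calc τ * (τ * x * τ⁻¹ * x⁻¹) * τ⁻¹ = ((τ * τ) * x) * (τ⁻¹ * x⁻¹ * τ⁻¹) := by group
          _ = (x * (τ * τ)) * (τ⁻¹ * x⁻¹ * τ⁻¹) := by rw [e1]
          _ = x * (τ * x * τ⁻¹)⁻¹ := by group
      have e3 : x * (τ * x * τ⁻¹)⁻¹ = τ * x * τ⁻¹ * x⁻¹ := by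
        have h5 : x⁻¹ = x := inv_eq_of_mul_eq_one_left (hA2 x hxA)
        have h6 : (τ * x * τ⁻¹)⁻¹ = τ * x * τ⁻¹ := inv_eq_of_mul_eq_one_left (hA2 _ hyA)
        rw [h6, hAc x hxA _ hyA]
        rw [h5]
      calc τ * (τ * x * τ⁻¹ * x⁻¹) = (τ * (τ * x * τ⁻¹ * x⁻¹) * τ⁻¹) * τ := by group
        _ = (τ * x * τ⁻¹ * x⁻¹) * τ := by rw [e2, e3]
    intro s hs
    rcases hmem s hs with h | h
    · exact hR'c s h
    · have : s = τ * (τ⁻¹ * s) := by group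
      rw [this, mul_assoc, hR'c _ h, ← mul_assoc, hτc, mul_assoc]
  let θ : F →* K :=
    { toFun := fun x => ⟨τ * x * τ⁻¹ * (x : Q)⁻¹, hval x x.2⟩
      map_one' := by
        apply Subtype.ext
        simp
      map_mul' := by
        intro x y
        apply Subtype.ext
        have hxA := ((hcen R' x).1 x.2).1
        have hyA := ((hcen R' y).1 y.2).1
        have h1 := hAc _ (inv_mem hxA) _ (mul_mem (hn τ hτ _ hyA) (inv_mem hyA))
        show τ * ((x : Q) * y) * τ⁻¹ * ((x : Q) * y)⁻¹ = (τ * x * τ⁻¹ * (x : Q)⁻¹) * (τ * y * τ⁻¹ * (y : Q)⁻¹)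
        calc τ * ((x : Q) * y) * τ⁻¹ * ((x : Q) * y)⁻¹
            = τ * x * τ⁻¹ * ((τ * y * τ⁻¹ * (y : Q)⁻¹) * (x : Q)⁻¹) := by group
          _ = τ * x * τ⁻¹ * ((x : Q)⁻¹ * (τ * y * τ⁻¹ * (y : Q)⁻¹)) := by rw [h1]
          _ = _ := by group }
  have hker : Nat.card θ.ker ≤ Nat.card K := by
    apply Nat.card_le_card_of_injective (fun x : θ.ker => (⟨((x : F) : Q), by
      refine (hcen R _).2 ?_
      obtain ⟨hxA, hxR⟩ := (hcen R' ((x : F) : Q)).1 (x : F).2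
      refine ⟨hxA, ?_⟩
      have h1 : τ * ((x : F) : Q) * τ⁻¹ * ((x : F) : Q)⁻¹ = 1 :=
        congrArg Subtype.val (MonoidHom.mem_ker.1 x.2)
      have h2 : τ * ((x : F) : Q) = ((x : F) : Q) * τ := by
        have := mul_inv_eq_one.1 h1
        exact mul_inv_eq_iff_eq_mul.1 this
      intro s hs
      rcases hmem s hs with h | h
      · exact hxR s h
      · have : s = τ * (τ⁻¹ * s) := by group
        rw [this, mul_assoc, hxR _ h, ← mul_assoc, h2, mul_assoc]⟩ : K))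
    intro x y hxy
    apply Subtype.ext
    apply Subtype.ext
    exact congrArg (fun z : K => (z : Q)) hxy
  have h1 := θ.ker.card_mul_index
  rw [index_ker] at h1
  have h2 : Nat.card θ.range ≤ Nat.card K := Nat.card_le_card_of_injective _ Subtype.val_injective
  rw [← h1, sq]
  exact Nat.mul_le_mul hker h2

/-- Fixed points of a subgroup of a 2-group on an elementary abelian normal subgroup. -/
theorem card_fix_le_pow {Q : Type*} [Group Q] [Finite Q] (hQ : IsPGroup 2 Q) (A : Subgroup Q)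
    (hA2 : ∀ a ∈ A, a * a = 1) (hn : ∀ r : Q, ∀ a ∈ A, r * a * r⁻¹ ∈ A) :
    ∀ (n : ℕ) (R : Subgroup Q), R.index = n →
      Nat.card (A ⊓ centralizer (R : Set Q) : Subgroup Q) ≤
        Nat.card (A ⊓ center Q : Subgroup Q) ^ R.index := by
  have : Fact (Nat.Prime 2) := ⟨Nat.prime_two⟩
  intro n
  induction n using Nat.strong_induction_on with
  | _ n ih =>
    intro R hRn
    by_cases hR : R = ⊤
    · subst hR
      rw [index_top, pow_one, coe_top, centralizer_univ]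
    · obtain ⟨k, hk⟩ := IsPGroup.iff_card.1 (hQ.to_subgroup R)
      obtain ⟨m, hm⟩ := IsPGroup.iff_card.1 hQ
      have hlt : k < m := by
        rcases lt_or_ge k m with h | h
        · exact h
        · exfalso
          apply hR
          apply eq_top_of_card_eq
          apply le_antisymm (card_le_card_group R)
          rw [hk, hm]
          exact Nat.pow_le_pow_right (by norm_num) h
      obtain ⟨R1, hR1, hRR1⟩ := Sylow.exists_subgroup_card_pow_succ (p := 2) (n := k)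
        (by rw [hm]; exact pow_dvd_pow 2 hlt) hk
      have hc : Nat.card R1 = 2 * Nat.card R := by rw [hR1, hk, pow_succ, mul_comm]
      have hidx : R.index = 2 * R1.index := by
        have h1 := R.card_mul_index
        have h2 := R1.card_mul_index
        have hpos : 0 < Nat.card R := Nat.card_pos
        rw [← h2, hc, mul_comm 2 (Nat.card R), mul_assoc] at h1
        exact Nat.eq_of_mul_eq_mul_left hpos h1
      have hpos1 : 0 < R1.index := Nat.pos_of_ne_zero R1.index_ne_zero_of_finite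
      have h1 := ih R1.index (by omega) R1 rfl
      have h2 := card_fix_le A hA2 R R1 hRR1 hc (fun r _ a ha => hn r a ha)
      calc Nat.card (A ⊓ centralizer (R : Set Q) : Subgroup Q) ≤
          Nat.card (A ⊓ centralizer (R1 : Set Q) : Subgroup Q) ^ 2 := h2
        _ ≤ (Nat.card (A ⊓ center Q : Subgroup Q) ^ R1.index) ^ 2 := Nat.pow_le_pow_left h1 2
        _ = Nat.card (A ⊓ center Q : Subgroup Q) ^ R.index := by rw [← pow_mul, hidx, mul_comm]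

end fix

end Cfsg.Agent.H309.Ru
end

-- part: H309/Ru/Basic
section
/-!
# S3204: first consequences of `Hyp` (helper309)
-/

set_option autoImplicit false

namespace Cfsg.Agent.H309.Ru

open Subgroup Pointwise
open scoped commutatorElement

variable {G : Type*} [Group G]

theorem comm_mul_left' (t t' z : G) : ⁅t * t', z⁆ = ⁅t, ⁅t', z⁆⁆ * ⁅t', z⁆ * ⁅t, z⁆ := by
  simp only [commutatorElement_def]; group

theorem conj_eq (t z : G) : t * z * t⁻¹ = ⁅t, z⁆ * z := by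
  simp only [commutatorElement_def]; group

theorem comm_eq_one {x y : G} (h : x * y = y * x) : ⁅x, y⁆ = 1 :=
  commutatorElement_eq_one_iff_mul_comm.2 h

theorem mul_comm_of_comm {x y : G} (h : ⁅x, y⁆ = 1) : x * y = y * x :=
  commutatorElement_eq_one_iff_mul_comm.1 h

theorem conj_of_mul_comm {x y : G} (h : x * y = y * x) : x * y * x⁻¹ = y := by
  rw [h]; group

theorem comm_mem_of_conj {x y : G} {K : Subgroup G} (hy : y ∈ K) (h : x * y * x⁻¹ ∈ K) : ⁅x, y⁆ ∈ K := by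
  rw [commutatorElement_def]; exact mul_mem h (inv_mem hy)

theorem conj_mem_of_comm {x y : G} {K : Subgroup G} (hy : y ∈ K) (h : ⁅x, y⁆ ∈ K) : x * y * x⁻¹ ∈ K := by
  rw [conj_eq]; exact mul_mem h hy

theorem comm_symm_mem {x y : G} {K : Subgroup G} (h : ⁅x, y⁆ ∈ K) : ⁅y, x⁆ ∈ K := by
  rw [← commutatorElement_inv]; exact inv_mem h

theorem mem_normalizer_of_conj [Finite G] {x : G} {K : Subgroup G} (h : ∀ k ∈ K, x * k * x⁻¹ ∈ K) :
    x ∈ normalizer (K : Set G) := by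
  rw [mem_normalizer_iff_conj]
  apply eq_of_le_of_card_le
  · rw [conj_smul_le]; exact h
  · rw [card_conj_smul]

theorem conj_of_mem_normalizer {x : G} {K : Subgroup G} (h : x ∈ normalizer (K : Set G)) {k : G} (hk : k ∈ K) :
    x * k * x⁻¹ ∈ K := (mem_normalizer_iff.1 h k).1 hk

theorem conj_of_mem_normalizer' {x : G} {K : Subgroup G} (h : x ∈ normalizer (K : Set G)) {k : G} (hk : k ∈ K) :
    x⁻¹ * k * x ∈ K := by
  have := conj_of_mem_normalizer (inv_mem h) hk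
  rwa [inv_inv] at this

theorem card_mul_le [Finite G] {A B T : Subgroup G} (hA : A ≤ T) (hB : B ≤ T) :
    Nat.card A * Nat.card B ≤ Nat.card T * Nat.card (A ⊓ B : Subgroup G) := by
  rw [← Cfsg.Agent.Lib.ProductSet.card_mul_card_inf]
  apply Nat.mul_le_mul_right
  apply Nat.card_mono (Set.toFinite _)
  rintro _ ⟨a, ha, b, hb, rfl⟩
  exact mul_mem (hA ha) (hB hb)

theorem card_sup_mul [Finite G] {A B : Subgroup G} (h : A ≤ normalizer (B : Set G)) :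
    Nat.card (A ⊔ B : Subgroup G) * Nat.card (A ⊓ B : Subgroup G) = Nat.card A * Nat.card B := by
  rw [← Cfsg.Agent.Lib.ProductSet.card_mul_card_inf A B, ← coe_mul_of_left_le_normalizer_right A B h]
  rfl

theorem mem_sup_norm {A B : Subgroup G} (h : A ≤ normalizer (B : Set G)) {x : G} :
    x ∈ A ⊔ B ↔ ∃ a ∈ A, ∃ b ∈ B, a * b = x := by
  rw [← SetLike.mem_coe, coe_mul_of_left_le_normalizer_right A B h]
  exact Set.mem_mul

/-- Orders of subgroups of 2-groups of known order. -/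
theorem dvd_of_le [Finite G] {A B : Subgroup G} (h : A ≤ B) {n : ℕ} (hB : Nat.card B = 2 ^ n) :
    ∃ k ≤ n, Nat.card A = 2 ^ k := by
  have h1 := card_dvd_of_le h
  rw [hB] at h1
  exact (Nat.dvd_prime_pow Nat.prime_two).1 h1

theorem conj_index_two [Finite G] {A B : Subgroup G} (hAB : A ≤ B) (hc : Nat.card B = 2 * Nat.card A)
    {s p : G} (hs : s ∈ B) (hp : p ∈ A) : s⁻¹ * p * s ∈ A := by
  by_cases hsA : s ∈ A
  · exact mul_mem (mul_mem (inv_mem hsA) hp) hsA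
  · rcases mem_or_mem hAB hc hs hsA (mul_mem (hAB hp) hs) with h | h
    · exfalso
      apply hsA
      have := mul_mem (inv_mem hp) h
      simpa using this
    · rw [mul_assoc]; exact h

theorem comm_mem_index_two [Finite G] {A B : Subgroup G} (hAB : A ≤ B) (hc : Nat.card B = 2 * Nat.card A)
    {x y : G} (hx : x ∈ B) (hy : y ∈ B) : ⁅x, y⁆ ∈ A := by
  by_cases hxA : x ∈ A
  · have h1 := conj_index_two hAB hc (inv_mem hy) (inv_mem hxA)
    rw [inv_inv] at h1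
    have : ⁅x, y⁆ = x * (y * x⁻¹ * y⁻¹) := by rw [commutatorElement_def]; group
    rw [this]; exact mul_mem hxA h1
  · have key : ∀ z ∈ B, z ∉ A → ⁅x, z⁆ ∈ A := by
      intro z hz hzA
      have h1 : x * z ∈ A := by
        have h2 := mem_or_mem hAB hc (inv_mem hx) (by rwa [inv_mem_iff]) hz
        rw [inv_inv] at h2
        exact h2.resolve_left hzA
      have h3 : z * x ∈ A := by
        have h2 := mem_or_mem hAB hc (inv_mem hz) (by rwa [inv_mem_iff]) hx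
        rw [inv_inv] at h2
        exact h2.resolve_left hxA
      have : ⁅x, z⁆ = (x * z) * (z * x)⁻¹ := by rw [commutatorElement_def]; group
      rw [this]; exact mul_mem h1 (inv_mem h3)
    by_cases hyA : y ∈ A
    · have h1 := conj_index_two hAB hc (inv_mem hx) hyA
      rw [inv_inv] at h1
      rw [commutatorElement_def]
      exact mul_mem h1 (inv_mem hyA)
    · exact key y hy hyA

theorem sq_mem_index_two [Finite G] {A B : Subgroup G} (hAB : A ≤ B) (hc : Nat.card B = 2 * Nat.card A)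
    {x : G} (hx : x ∈ B) : x * x ∈ A := by
  by_cases hxA : x ∈ A
  · exact mul_mem hxA hxA
  · have h2 := mem_or_mem hAB hc (inv_mem hx) (by rwa [inv_mem_iff]) hx
    rw [inv_inv] at h2
    exact h2.resolve_left hxA

/-- A product of two elements outside a subgroup of index 2. -/
theorem mul_mem_index_two [Finite G] {A B : Subgroup G} (hAB : A ≤ B) (hc : Nat.card B = 2 * Nat.card A)
    {x y : G} (hx : x ∈ B) (hy : y ∈ B) (hxA : x ∉ A) (hyA : y ∉ A) : x * y ∈ A := by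
  have h2 := mem_or_mem hAB hc (inv_mem hx) (by rwa [inv_mem_iff]) hy
  rw [inv_inv] at h2
  exact h2.resolve_left hyA

/-- Proper subgroups of 2-groups lie in subgroups of index 2. -/
theorem exists_index_two_sub [Finite G] {P S : Subgroup G} {n : ℕ} (hP : Nat.card P = 2 ^ n) (hS : S ≤ P)
    (hne : ¬ P ≤ S) : ∃ P' : Subgroup G, S ≤ P' ∧ P' ≤ P ∧ Nat.card P = 2 * Nat.card P' := by
  have : Fact (Nat.Prime 2) := ⟨Nat.prime_two⟩
  have hPp : IsPGroup 2 P := IsPGroup.of_card hP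
  have h1 : S.subgroupOf P ≠ ⊤ := by
    intro h; rw [subgroupOf_eq_top] at h; exact hne h
  obtain ⟨R, hR, hle⟩ := (eq_top_or_exists_le_coatom (S.subgroupOf P)).resolve_left h1
  have hidx : R.index = 2 := Cfsg.Agent.Lib.FrattiniPGroup.index_of_coatom hPp hR
  refine ⟨R.map P.subtype, ?_, map_subtype_le R, ?_⟩
  · intro x hx
    exact ⟨⟨x, hS hx⟩, hle (by rw [mem_subgroupOf]; exact hx), rfl⟩
  · rw [card_map_of_injective P.subtype_injective, ← R.card_mul_index, hidx, mul_comm]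

namespace Hyp

variable {T T1 T2 W Z4 Z Z2 Z1 : Subgroup G}

theorem ZW (h : Hyp T T1 T2 W Z4 Z Z2 Z1) : Z ≤ W := h.Z_le.trans h.Z4_le
theorem Z2W (h : Hyp T T1 T2 W Z4 Z Z2 Z1) : Z2 ≤ W := h.Z2_le.trans h.ZW
theorem Z1W (h : Hyp T T1 T2 W Z4 Z Z2 Z1) : Z1 ≤ W := h.Z1_le.trans h.Z2W
theorem Z1Z (h : Hyp T T1 T2 W Z4 Z Z2 Z1) : Z1 ≤ Z := h.Z1_le.trans h.Z2_le
theorem WT (h : Hyp T T1 T2 W Z4 Z Z2 Z1) : W ≤ T := h.W_le1.trans h.T1_le
theorem ZT (h : Hyp T T1 T2 W Z4 Z Z2 Z1) : Z ≤ T := h.ZW.trans h.WT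
theorem Z2T (h : Hyp T T1 T2 W Z4 Z Z2 Z1) : Z2 ≤ T := h.Z2W.trans h.WT
theorem Z1T (h : Hyp T T1 T2 W Z4 Z Z2 Z1) : Z1 ≤ T := h.Z1W.trans h.WT

theorem conj (h : Hyp T T1 T2 W Z4 Z Z2 Z1) (g : G) :
    Hyp (MulAut.conj g • T) (MulAut.conj g • T1) (MulAut.conj g • T2) (MulAut.conj g • W)
      (MulAut.conj g • Z4) (MulAut.conj g • Z) (MulAut.conj g • Z2) (MulAut.conj g • Z1) :=
  h.map (MulAut.conj g).toMonoidHom (MulAut.conj g).injective

variable (h : Hyp T T1 T2 W Z4 Z Z2 Z1)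
include h

theorem commZ {a b : G} (ha : a ∈ Z) (hb : b ∈ Z) : a * b = b * a := h.cen b hb a (h.ZW ha)

theorem n1 {t z : G} (ht : t ∈ T) (hz : z ∈ Z1) : t * z * t⁻¹ ∈ Z1 := by
  rw [conj_of_mul_comm (h.c1 t ht z hz)]; exact hz
theorem n2 {t z : G} (ht : t ∈ T) (hz : z ∈ Z2) : t * z * t⁻¹ ∈ Z2 :=
  conj_mem_of_comm hz (h.Z1_le (h.c2 t ht z hz))
theorem n3 {t z : G} (ht : t ∈ T) (hz : z ∈ Z) : t * z * t⁻¹ ∈ Z :=
  conj_mem_of_comm hz (h.Z2_le (h.c3 t ht z hz))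
theorem n4 {t z : G} (ht : t ∈ T) (hz : z ∈ Z4) : t * z * t⁻¹ ∈ Z4 :=
  conj_mem_of_comm hz (h.Z_le (h.c4 t ht z hz))

theorem commW {t w : G} (ht : t ∈ T) (hw : w ∈ W) : ⁅t, w⁆ ∈ W := comm_mem_of_conj hw (h.nW t ht w hw)

theorem TNW [Finite G] : T ≤ normalizer (W : Set G) := fun t ht =>
  mem_normalizer_of_conj (fun w hw => h.nW t ht w hw)
theorem TNZ [Finite G] : T ≤ normalizer (Z : Set G) := fun _ ht =>
  mem_normalizer_of_conj (fun _ hw => h.n3 ht hw)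
theorem TNZ2 [Finite G] : T ≤ normalizer (Z2 : Set G) := fun _ ht =>
  mem_normalizer_of_conj (fun _ hw => h.n2 ht hw)
theorem TNZ1 [Finite G] : T ≤ normalizer (Z1 : Set G) := fun _ ht =>
  mem_normalizer_of_conj (fun _ hw => h.n1 ht hw)

theorem exists_z1 : ∃ z ∈ Z1, z ≠ 1 := by
  by_contra hcon
  push Not at hcon
  have : Z1 = ⊥ := by rw [eq_bot_iff]; intro z hz; exact mem_bot.2 (hcon z hz)
  have h1 := h.cZ1
  rw [this, card_bot] at h1
  omega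

theorem exists_z2 [Finite G] : ∃ z ∈ Z2, z ∉ Z1 := by
  by_contra hcon
  push Not at hcon
  have := Nat.le_of_dvd Nat.card_pos (card_dvd_of_le (show Z2 ≤ Z1 from hcon))
  have h1 := h.cZ1
  have h2 := h.cZ2
  omega

theorem exists_z3 [Finite G] : ∃ z ∈ Z, z ∉ Z2 := by
  by_contra hcon
  push Not at hcon
  have := Nat.le_of_dvd Nat.card_pos (card_dvd_of_le (show Z ≤ Z2 from hcon))
  have h1 := h.cZ
  have h2 := h.cZ2
  omega

theorem eq_z1 [Finite G] {a b : G} (ha : a ∈ Z1) (ha' : a ≠ 1) (hb : b ∈ Z1) : b = 1 ∨ b = a := by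
  have h1 := mem_or_mem (A := ⊥) (B := Z1) bot_le (by rw [h.cZ1, card_bot]) ha
    (by rwa [mem_bot]) hb
  rcases h1 with h1 | h1
  · exact Or.inl (mem_bot.1 h1)
  · right
    rw [mem_bot] at h1
    exact (inv_mul_eq_one.1 h1).symm

theorem mod2 [Finite G] {a b : G} (ha : a ∈ Z2) (ha' : a ∉ Z1) (hb : b ∈ Z2) : b ∈ Z1 ∨ a⁻¹ * b ∈ Z1 :=
  mem_or_mem h.Z1_le (by rw [h.cZ1, h.cZ2]) ha ha' hb

theorem mod3 [Finite G] {a b : G} (ha : a ∈ Z) (ha' : a ∉ Z2) (hb : b ∈ Z) : b ∈ Z2 ∨ a⁻¹ * b ∈ Z2 :=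
  mem_or_mem h.Z2_le (by rw [h.cZ2, h.cZ]) ha ha' hb

theorem comm_mul {t a b : G} (ht : t ∈ T) (ha : a ∈ Z) (hb : b ∈ Z) : ⁅t, a * b⁆ = ⁅t, a⁆ * ⁅t, b⁆ := by
  rw [commutatorElement_mul_right_eq_mul_conj, mul_assoc, mul_assoc,
    h.commZ ha (mul_mem (h.Z2_le (h.c3 t ht b hb)) (inv_mem ha)), mul_assoc, inv_mul_cancel, mul_one]

theorem mem1 [Finite G] {t z : G} (ht : t ∈ T) (hz : z ∈ Z) (hz' : z ∉ Z2) : t ∈ T1 ↔ ⁅t, z⁆ ∈ Z1 := by
  rw [h.memT1]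
  constructor
  · intro h1; exact h1.2 z hz
  · intro h1
    refine ⟨ht, fun y hy => ?_⟩
    rcases h.mod3 hz hz' hy with h2 | h2
    · exact h.c2 t ht y h2
    · have : y = z * (z⁻¹ * y) := by group
      rw [this, h.comm_mul ht hz (h.Z2_le h2)]
      exact mul_mem h1 (h.c2 t ht _ h2)

theorem mem2 [Finite G] {t z : G} (ht : t ∈ T) (hz : z ∈ Z2) (hz' : z ∉ Z1) : t ∈ T2 ↔ ⁅t, z⁆ = 1 := by
  rw [h.memT2]
  constructor
  · intro h1; exact comm_eq_one (h1.2 z hz)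
  · intro h1
    refine ⟨ht, fun y hy => ?_⟩
    apply mul_comm_of_comm
    rcases h.mod2 hz hz' hy with h2 | h2
    · exact comm_eq_one (h.c1 t ht y h2)
    · have : y = z * (z⁻¹ * y) := by group
      rw [this, h.comm_mul ht (h.Z2_le hz) (h.Z1Z h2), h1, one_mul]
      exact comm_eq_one (h.c1 t ht _ h2)

theorem comm_mem_W_iff {x y : G} (hx : x ∈ T) (hy : y ∈ T) :
    ⁅x, y⁆ ∈ W ↔ ∀ z ∈ Z, ⁅x, ⁅y, z⁆⁆ = ⁅y, ⁅x, z⁆⁆ := by
  have h1 : ∀ z ∈ Z, (⁅x * y, z⁆ = ⁅y * x, z⁆ ↔ ⁅x, ⁅y, z⁆⁆ = ⁅y, ⁅x, z⁆⁆) := by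
    intro z hz
    rw [comm_mul_left', comm_mul_left', mul_assoc, mul_assoc,
      h.commZ (h.Z2_le (h.c3 x hx z hz)) (h.Z2_le (h.c3 y hy z hz)), mul_left_inj]
  have h2 : ∀ z : G, (⁅x * y, z⁆ = ⁅y * x, z⁆ ↔
      ⁅x, y⁆ * ((y * x) * z * (y * x)⁻¹) = ((y * x) * z * (y * x)⁻¹) * ⁅x, y⁆) := by
    intro z
    have e1 : ⁅x, y⁆ * ((y * x) * z * (y * x)⁻¹) = (⁅x * y, z⁆ * z) * ⁅x, y⁆ := by
      simp only [commutatorElement_def]; group
    have e2 : ((y * x) * z * (y * x)⁻¹) * ⁅x, y⁆ = (⁅y * x, z⁆ * z) * ⁅x, y⁆ := by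
      simp only [commutatorElement_def]; group
    rw [e1, e2, mul_left_inj, mul_left_inj]
  constructor
  · intro hW z hz
    rw [← h1 z hz, h2]
    exact (h.cen _ (h.n3 (mul_mem hy hx) hz) _ hW)
  · intro hz
    apply h.memW _ (by rw [commutatorElement_def]; exact mul_mem (mul_mem (mul_mem hx hy) (inv_mem hx)) (inv_mem hy))
    intro z hzZ
    have h3 := h.n3 (inv_mem (mul_mem hy hx)) hzZ
    have h4 := (h2 _).1 ((h1 _ h3).2 (hz _ h3))
    have h5 : (y * x) * ((y * x)⁻¹ * z * (y * x)⁻¹⁻¹) * (y * x)⁻¹ = z := by group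
    rw [h5] at h4
    exact h4

theorem T1T {x : G} (hx : x ∈ T1) : x ∈ T := h.T1_le hx
theorem T2T {x : G} (hx : x ∈ T2) : x ∈ T := h.T2_le hx

theorem T1c {t z : G} (ht : t ∈ T1) (hz : z ∈ Z) : ⁅t, z⁆ ∈ Z1 := ((h.memT1 t).1 ht).2 z hz
theorem T2c {t z : G} (ht : t ∈ T2) (hz : z ∈ Z2) : ⁅t, z⁆ = 1 := comm_eq_one (((h.memT2 t).1 ht).2 z hz)

theorem Z1c {t z : G} (ht : t ∈ T) (hz : z ∈ Z1) : ⁅t, z⁆ = 1 := comm_eq_one (h.c1 t ht z hz)

/-- F2 -/
theorem sqT1 {x : G} (hx : x ∈ T1) : x * x ∈ W := by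
  apply h.memW _ (mul_mem (h.T1_le hx) (h.T1_le hx))
  intro z hz
  apply mul_comm_of_comm
  rw [comm_mul_left', h.Z1c (h.T1_le hx) (h.T1c hx hz), one_mul]
  exact h.sqZ _ (h.Z1Z (h.T1c hx hz))

theorem sqT2 {x : G} (hx : x ∈ T2) : x * x ∈ W := by
  apply h.memW _ (mul_mem (h.T2_le hx) (h.T2_le hx))
  intro z hz
  apply mul_comm_of_comm
  rw [comm_mul_left', h.T2c hx (h.c3 x (h.T2_le hx) z hz), one_mul]
  exact h.sqZ _ (h.Z2_le (h.c3 x (h.T2_le hx) z hz))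

theorem commT1 {x y : G} (hx : x ∈ T1) (hy : y ∈ T1) : ⁅x, y⁆ ∈ W := by
  rw [h.comm_mem_W_iff (h.T1_le hx) (h.T1_le hy)]
  intro z hz
  rw [h.Z1c (h.T1_le hx) (h.T1c hy hz), h.Z1c (h.T1_le hy) (h.T1c hx hz)]

theorem commT2 {x y : G} (hx : x ∈ T2) (hy : y ∈ T2) : ⁅x, y⁆ ∈ W := by
  rw [h.comm_mem_W_iff (h.T2_le hx) (h.T2_le hy)]
  intro z hz
  rw [h.T2c hx (h.c3 y (h.T2_le hy) z hz), h.T2c hy (h.c3 x (h.T2_le hx) z hz)]

/-- F3 -/
theorem sq_not_mem [Finite G] {x : G} (hx : x ∈ T) (hx1 : x ∉ T1) (hx2 : x ∉ T2) : x * x ∉ W := by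
  intro hcon
  obtain ⟨z3, hz3, hz3'⟩ := h.exists_z3
  have h1 := comm_eq_one (h.cen z3 hz3 _ hcon)
  have h3 := h.c3 x hx z3 hz3
  rw [comm_mul_left', mul_assoc, h.sqZ _ (h.Z2_le h3), mul_one] at h1
  rw [h.mem1 hx hz3 hz3'] at hx1
  exact hx2 ((h.mem2 hx h3 hx1).2 h1)

/-- F4 -/
theorem mem_T1_of_comm [Finite G] {x y : G} (hx : x ∈ T1) (hx2 : x ∉ T2) (hy : y ∈ T) (hc : ⁅x, y⁆ ∈ W) :
    y ∈ T1 := by
  obtain ⟨z3, hz3, hz3'⟩ := h.exists_z3
  have h1 := (h.comm_mem_W_iff (h.T1_le hx) hy).1 hc z3 hz3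
  rw [h.Z1c hy (h.T1c hx hz3)] at h1
  rw [h.mem1 hy hz3 hz3']
  by_contra hcon
  exact hx2 ((h.mem2 (h.T1_le hx) (h.c3 y hy z3 hz3) hcon).2 h1)

theorem mem_T2_of_comm [Finite G] {x y : G} (hx : x ∈ T2) (hx1 : x ∉ T1) (hy : y ∈ T) (hc : ⁅x, y⁆ ∈ W) :
    y ∈ T2 := by
  obtain ⟨z3, hz3, hz3'⟩ := h.exists_z3
  have h1 := (h.comm_mem_W_iff (h.T2_le hx) hy).1 hc z3 hz3
  rw [h.T2c hx (h.c3 y hy z3 hz3)] at h1
  rw [h.mem1 (h.T2_le hx) hz3 hz3'] at hx1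
  exact (h.mem2 hy (h.c3 x (h.T2_le hx) z3 hz3) hx1).2 h1.symm

/-- There is an element of `T1` outside `T2`. -/
theorem exists_T1 [Finite G] : ∃ t ∈ T1, t ∉ T2 := by
  obtain ⟨z2, hz2, hz2'⟩ := h.exists_z2
  obtain ⟨z3, hz3, hz3'⟩ := h.exists_z3
  obtain ⟨z1, hz1, hz1'⟩ := h.exists_z1
  obtain ⟨t, ht, e1, e2⟩ := h.full z2 hz2 hz2' z3 hz3 hz3' z1 hz1 1 (one_mem _)
  refine ⟨t, ?_, ?_⟩
  · rw [h.mem1 ht hz3 hz3', e2]; exact one_mem _
  · rw [h.mem2 ht hz2 hz2', e1]; exact hz1'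

theorem exists_T2 [Finite G] : ∃ t ∈ T2, t ∉ T1 := by
  obtain ⟨z2, hz2, hz2'⟩ := h.exists_z2
  obtain ⟨z3, hz3, hz3'⟩ := h.exists_z3
  obtain ⟨t, ht, e1, e2⟩ := h.full z2 hz2 hz2' z3 hz3 hz3' 1 (one_mem _) z2 hz2
  refine ⟨t, ?_, ?_⟩
  · rw [h.mem2 ht hz2 hz2', e1]
  · rw [h.mem1 ht hz3 hz3', e2]; exact hz2'

/-- F5 -/
theorem cent_T1 [Finite G] {z : G} (hz : z ∈ Z) (hc : ∀ t ∈ T1, t * z = z * t) : z ∈ Z1 := by
  by_contra hcon
  obtain ⟨z2, hz2, hz2'⟩ := h.exists_z2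
  obtain ⟨z1, hz1, hz1'⟩ := h.exists_z1
  by_cases hz2z : z ∈ Z2
  · obtain ⟨z3, hz3, hz3'⟩ := h.exists_z3
    obtain ⟨t, ht, e1, e2⟩ := h.full z hz2z hcon z3 hz3 hz3' z1 hz1 1 (one_mem _)
    have h1 : t ∈ T1 := by rw [h.mem1 ht hz3 hz3', e2]; exact one_mem _
    rw [comm_eq_one (hc t h1)] at e1
    exact hz1' e1.symm
  · obtain ⟨t, ht, e1, e2⟩ := h.full z2 hz2 hz2' z hz hz2z 1 (one_mem _) z1 (h.Z1_le hz1)
    have h1 : t ∈ T1 := by rw [h.mem1 ht hz hz2z, e2]; exact hz1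
    rw [comm_eq_one (hc t h1)] at e2
    exact hz1' e2.symm

/-- F6 -/
theorem exists_comm_T2 [Finite G] {z a : G} (hz : z ∈ Z) (hz' : z ∉ Z2) (ha : a ∈ Z2) :
    ∃ t ∈ T2, ⁅t, z⁆ = a := by
  obtain ⟨z2, hz2, hz2'⟩ := h.exists_z2
  obtain ⟨t, ht, e1, e2⟩ := h.full z2 hz2 hz2' z hz hz' 1 (one_mem _) a ha
  exact ⟨t, (h.mem2 ht hz2 hz2').2 e1, e2⟩

theorem cent_T2 [Finite G] {z : G} (hz : z ∈ Z) (hc : ∀ t ∈ T2, t * z = z * t) : z ∈ Z2 := by
  by_contra hcon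
  obtain ⟨z1, hz1, hz1'⟩ := h.exists_z1
  obtain ⟨t, ht, e⟩ := h.exists_comm_T2 hz hcon (h.Z1_le hz1)
  rw [comm_eq_one (hc t ht)] at e
  exact hz1' e.symm

/-- An element `z2` and `t ∈ T1` with `⁅t, z2⁆ = z1`. -/
theorem exists_comm_T1 [Finite G] {z a : G} (hz : z ∈ Z2) (hz' : z ∉ Z1) (ha : a ∈ Z1) :
    ∃ t ∈ T1, ⁅t, z⁆ = a := by
  obtain ⟨z3, hz3, hz3'⟩ := h.exists_z3
  obtain ⟨t, ht, e1, e2⟩ := h.full z hz hz' z3 hz3 hz3' a ha 1 (one_mem _)
  exact ⟨t, (h.mem1 ht hz3 hz3').2 (by rw [e2]; exact one_mem _), e1⟩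

theorem idx1 : Nat.card T = 2 * Nat.card T1 := by rw [h.cT, h.cT1]
theorem idx2 : Nat.card T = 2 * Nat.card T2 := by rw [h.cT, h.cT2]

/-- Maximal subgroups of `T` over `W` with squares in `W`. -/
theorem eq_of_sq [Finite G] {P : Subgroup G} (hP : P ≤ T) (hc : Nat.card P = 8192)
    (hsq : ∀ x ∈ P, x * x ∈ W) : P = T1 ∨ P = T2 := by
  by_contra hcon
  push Not at hcon
  have h1 : ∃ x ∈ P, x ∉ T1 := by
    by_contra h2
    push Not at h2
    exact hcon.1 (eq_of_le_of_card_le h2 (by rw [h.cT1, hc]))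
  have h2 : ∃ x ∈ P, x ∉ T2 := by
    by_contra h2
    push Not at h2
    exact hcon.2 (eq_of_le_of_card_le h2 (by rw [h.cT2, hc]))
  obtain ⟨x, hx, hx1⟩ := h1
  obtain ⟨y, hy, hy2⟩ := h2
  by_cases hx2 : x ∈ T2
  · by_cases hy1 : y ∈ T1
    · refine h.sq_not_mem (mul_mem (hP hx) (hP hy)) ?_ ?_ (hsq _ (mul_mem hx hy))
      · intro h3; exact hx1 ((mul_mem_cancel_right hy1).1 h3)
      · intro h3; exact hy2 ((mul_mem_cancel_left hx2).1 h3)
    · exact h.sq_not_mem (hP hy) hy1 hy2 (hsq _ hy)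
  · exact h.sq_not_mem (hP hx) hx1 hx2 (hsq _ hx)

/-- A maximal subgroup of `T` over `W` meeting `T1 ∖ T2` is `T1`. -/
theorem eq_T1 [Finite G] {P : Subgroup G} (hP : P ≤ T) (hW : W ≤ P) (hc : Nat.card T = 2 * Nat.card P)
    {t : G} (ht : t ∈ T1) (ht2 : t ∉ T2) (htP : t ∈ P) : P = T1 := by
  by_contra hcon
  have hcP : Nat.card P = 8192 := by have := h.cT; omega
  have h1 : ∃ x ∈ P, x ∉ T1 := by
    by_contra h2
    push Not at h2
    exact hcon (eq_of_le_of_card_le h2 (by rw [h.cT1, hcP]))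
  obtain ⟨y, hy, hy1⟩ := h1
  have h3 : ⁅t, y⁆ ∉ W := fun h4 => hy1 (h.mem_T1_of_comm ht ht2 (hP hy) h4)
  have h5 : ⁅t, y⁆ ∈ T2 := comm_mem_index_two h.T2_le h.idx2 (h.T1_le ht) (hP hy)
  have h6 : ⁅t, y⁆ ∈ T1 := comm_mem_index_two h.T1_le h.idx1 (h.T1_le ht) (hP hy)
  have h7 : ⁅t, y⁆ ∈ P := by
    rw [commutatorElement_def]; exact mul_mem (mul_mem (mul_mem htP hy) (inv_mem htP)) (inv_mem hy)
  -- P ⊓ T1 has order 2^12
  have h8 : Nat.card (P ⊓ T1 : Subgroup G) = 2 * Nat.card W := by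
    have h9 : P ⊓ T1 < P := by
      refine lt_of_le_of_ne inf_le_left ?_
      intro heq; exact hy1 ((inf_eq_left.1 heq) hy)
    have h10 := card_lt_two h9
    have h11 := card_mul_le hP h.T1_le
    rw [hcP, h.cT1, h.cT] at h11
    rw [hcP] at h10
    rw [h.cW]
    omega
  have h12 : t ∉ W := fun h13 => ht2 (h.W_le2 h13)
  rcases mem_or_mem (le_inf hW h.W_le1) h8 (mem_inf.2 ⟨htP, ht⟩) h12 (mem_inf.2 ⟨h7, h6⟩) with h14 | h14
  · exact h3 h14
  · apply ht2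
    have h15 := h.W_le2 h14
    have h16 := mul_mem h5 (inv_mem h15)
    have e : ∀ a b : G, a * (b⁻¹ * a)⁻¹ = b := by intro a b; group
    rwa [e] at h16

/-- A maximal subgroup of `T` over `W` meeting `T2 ∖ T1` is `T2`. -/
theorem eq_T2 [Finite G] {P : Subgroup G} (hP : P ≤ T) (hW : W ≤ P) (hc : Nat.card T = 2 * Nat.card P)
    {t : G} (ht : t ∈ T2) (ht2 : t ∉ T1) (htP : t ∈ P) : P = T2 := by
  by_contra hcon
  have hcP : Nat.card P = 8192 := by have := h.cT; omega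
  have h1 : ∃ x ∈ P, x ∉ T2 := by
    by_contra h2
    push Not at h2
    exact hcon (eq_of_le_of_card_le h2 (by rw [h.cT2, hcP]))
  obtain ⟨y, hy, hy1⟩ := h1
  have h3 : ⁅t, y⁆ ∉ W := fun h4 => hy1 (h.mem_T2_of_comm ht ht2 (hP hy) h4)
  have h5 : ⁅t, y⁆ ∈ T1 := comm_mem_index_two h.T1_le h.idx1 (h.T2_le ht) (hP hy)
  have h6 : ⁅t, y⁆ ∈ T2 := comm_mem_index_two h.T2_le h.idx2 (h.T2_le ht) (hP hy)
  have h7 : ⁅t, y⁆ ∈ P := by
    rw [commutatorElement_def]; exact mul_mem (mul_mem (mul_mem htP hy) (inv_mem htP)) (inv_mem hy)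
  have h8 : Nat.card (P ⊓ T2 : Subgroup G) = 2 * Nat.card W := by
    have h9 : P ⊓ T2 < P := by
      refine lt_of_le_of_ne inf_le_left ?_
      intro heq; exact hy1 ((inf_eq_left.1 heq) hy)
    have h10 := card_lt_two h9
    have h11 := card_mul_le hP h.T2_le
    rw [hcP, h.cT2, h.cT] at h11
    rw [hcP] at h10
    rw [h.cW]
    omega
  have h12 : t ∉ W := fun h13 => ht2 (h.W_le1 h13)
  rcases mem_or_mem (le_inf hW h.W_le2) h8 (mem_inf.2 ⟨htP, ht⟩) h12 (mem_inf.2 ⟨h7, h6⟩) with h14 | h14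
  · exact h3 h14
  · apply ht2
    have h15 := h.W_le1 h14
    have h16 := mul_mem h5 (inv_mem h15)
    have e : ∀ a b : G, a * (b⁻¹ * a)⁻¹ = b := by intro a b; group
    rwa [e] at h16

/-- Weak closure of `W` in `T`. -/
theorem weak [Finite G] {g : G} (hg : MulAut.conj g • W ≤ T) : MulAut.conj g • W = W := by
  have h' := h.conj g
  set W' : Subgroup G := MulAut.conj g • W with hW'
  set Z' : Subgroup G := MulAut.conj g • Z with hZ'
  have cW' : Nat.card W' = 2048 := h'.cW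
  have h1 := card_mul_le h.WT hg
  rw [h.cW, cW', h.cT] at h1
  have h3 : Z' ≤ W ⊓ W' := h'.d _ inf_le_right (by rw [cW']; omega)
  -- W ⊔ W' has squares in ...: it is not T
  have hsq : ∀ x ∈ W' ⊔ W, x * x ∈ W := by
    intro x hx
    obtain ⟨a, ha, b, hb, rfl⟩ := (mem_sup_norm (hg.trans h.TNW)).1 hx
    have e : a * b * (a * b) = (a * b * a⁻¹) * (a * a) * b := by group
    rw [e]
    refine mul_mem (mul_mem (h.nW a (hg ha) b hb) (h3 (h'.sqW a ha)).1) hb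
  have h4 : W' ⊔ W < T := by
    refine lt_of_le_of_ne (sup_le hg h.WT) ?_
    intro heq
    -- T has an element whose square is not in W
    obtain ⟨a, ha, ha2⟩ := h.exists_T1
    obtain ⟨b, hb, hb1⟩ := h.exists_T2
    have hab : a * b ∈ T := mul_mem (h.T1_le ha) (h.T2_le hb)
    refine h.sq_not_mem hab ?_ ?_ (hsq _ (by rw [heq]; exact hab))
    · intro h5; exact hb1 ((mul_mem_cancel_left ha).1 h5)
    · intro h5; exact ha2 ((mul_mem_cancel_right hb).1 h5)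
  have h5 := card_lt_two h4
  rw [h.cT] at h5
  have h6 := card_sup_mul (hg.trans h.TNW)
  rw [cW', h.cW] at h6
  have h7 : 2048 ≤ 4 * Nat.card (W' ⊓ W : Subgroup G) := by
    by_contra hcon
    push Not at hcon
    have : Nat.card (W' ⊔ W : Subgroup G) ≤ 8192 := by omega
    nlinarith
  have h8 : Z ≤ Z' := by
    apply h.C (W' ⊓ W) inf_le_right (by rw [h.cW]; exact h7)
    intro x hx y hy
    exact h'.comW x hx.1 y hy.1
  have h9 : Z = Z' := eq_of_le_of_card_le h8 (by rw [h.cZ, h'.cZ])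
  apply eq_of_le_of_card_le
  · intro x hx
    apply h.memW x (hg hx)
    intro z hz
    exact h'.cen z (h8 hz) x hx
  · rw [h.cW, cW']

/-- `Z` is characteristic in `W`. -/
theorem conjZ_of_conjW [Finite G] {g : G} (hg : MulAut.conj g • W = W) : MulAut.conj g • Z = Z := by
  have h' := h.conj g
  symm
  apply eq_of_le_of_card_le
  · apply h.C W le_rfl (by omega)
    intro x hx y hy
    rw [← hg] at hx hy
    exact h'.comW x hx y hy
  · rw [h.cZ, h'.cZ]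

end Hyp

end Cfsg.Agent.H309.Ru
end
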